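import Cfsg.Agent.H931.NE.E8Dat

/-!
# `E₈(q)`, `q` of order 3, 4, 6 modulo `p` (S4791, S4927; helper931): the values of the power sum forms at lattice points
-/

set_option autoImplicit false

namespace Cfsg.Agent.H931.NE

open Cfsg Cfsg.Lie Cfsg.Lie.ChevalleyDatum
open Cfsg.Agent.ChevalleyStructure.CoxeterGeomTypes Cfsg.Agent.Nodes.RGDChev Cfsg.Agent.H129.WData
  Cfsg.Agent.H129.TorusChar Cfsg.Agent.Tits.Roots Cfsg.Agent.Nodes.Reps Cfsg.Agent.Nodes Cfsg.Agent.H210.EL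
open Cfsg.Agent.H994.KE.E8 (Am W6 W4)
open Cfsg.Agent.H92.NE (bl)

/-! ### the power sums -/

/-- the power sums for `W6`: `s² = s - 1` -/
def S6 {R : Type*} [CommRing R] (s : R) (k : ℕ) (x : Fin 8 → ℤ) : R :=
  ∑ r : Fin chevE8.nroots, ((bl Am (vec chevE8 8 r) ((2 : ℤ) • x - ap W6 x) : R) +
    s * (bl Am (vec chevE8 8 r) ((2 : ℤ) • ap W6 x - x) : R)) ^ k

/-- the power sums for `W4`: `s² = -1` -/
def S4 {R : Type*} [CommRing R] (s : R) (k : ℕ) (x : Fin 8 → ℤ) : R :=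
  ∑ r : Fin chevE8.nroots, ((bl Am (vec chevE8 8 r) x : R) + s * (bl Am (vec chevE8 8 r) (ap W4 x) : R)) ^ k

section

variable {R : Type*} [CommRing R] {s : R}

theorem S6_eq {k : ℕ} {g : ℤ × ℤ → ℤ × ℤ} (hg : ∀ z, gv s (g z) = gv s z ^ k) {x a b : Fin 8 → ℤ} {v : ℤ}
    (he : (2 : ℤ) • x - ap W6 x = a ∧ (2 : ℤ) • ap W6 x - x = b) (hv : (∑ r, g (prr a b r)) = (v, 0)) :
    S6 s k x = v := by
  unfold S6
  rw [he.1, he.2]
  have h1 : ∀ r : Fin chevE8.nroots, ((bl Am (vec chevE8 8 r) a : R) + s * (bl Am (vec chevE8 8 r) b : R)) ^ k =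
      gv s (g (prr a b r)) := fun r => (hg (prr a b r)).symm
  rw [Finset.sum_congr rfl fun r _ => h1 r, sum_gv, hv]
  unfold gv
  simp

theorem S4_eq {k : ℕ} {g : ℤ × ℤ → ℤ × ℤ} (hg : ∀ z, gv s (g z) = gv s z ^ k) {x w : Fin 8 → ℤ} {v : ℤ}
    (he : ap W4 x = w) (hv : (∑ r, g (prr x w r)) = (v, 0)) : S4 s k x = v := by
  unfold S4
  rw [he]
  have h1 : ∀ r : Fin chevE8.nroots, ((bl Am (vec chevE8 8 r) x : R) + s * (bl Am (vec chevE8 8 r) w : R)) ^ k =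
      gv s (g (prr x w r)) := fun r => (hg (prr x w r)).symm
  rw [Finset.sum_congr rfl fun r _ => h1 r, sum_gv, hv]
  unfold gv
  simp

section six

variable (hs : s ^ 2 = s - 1)

include hs

theorem hs1 : s ^ 2 = ((1 : ℤ) : R) * s - 1 := by rw [Int.cast_one, one_mul, hs]

theorem S6_12_x0 : S6 s 12 x0 = ((3306744 : ℤ) : R) := S6_eq (gv_g12 (hs1 hs)) e0 v0_12
theorem S6_18_x0 : S6 s 18 x0 = ((2321334288 : ℤ) : R) := S6_eq (gv_g18 (hs1 hs)) e0 v0_18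
theorem S6_24_x0 : S6 s 24 x0 = ((1694663312328 : ℤ) : R) := S6_eq (gv_g24 (hs1 hs)) e0 v0_24
theorem S6_30_x0 : S6 s 30 x0 = ((1235344468044960 : ℤ) : R) := S6_eq (gv_g30 (hs1 hs)) e0 v0_30
theorem S6_12_x1 : S6 s 12 x1 = ((79361856 : ℤ) : R) := S6_eq (gv_g12 (hs1 hs)) e1 v1_12
theorem S6_18_x1 : S6 s 18 x1 = ((-74282697216 : ℤ) : R) := S6_eq (gv_g18 (hs1 hs)) e1 v1_18
theorem S6_24_x1 : S6 s 24 x1 = ((174046502347200 : ℤ) : R) := S6_eq (gv_g24 (hs1 hs)) e1 v1_24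
theorem S6_30_x1 : S6 s 30 x1 = ((-267443616068254080 : ℤ) : R) := S6_eq (gv_g30 (hs1 hs)) e1 v1_30
theorem S6_12_x2 : S6 s 12 x2 = ((449717184 : ℤ) : R) := S6_eq (gv_g12 (hs1 hs)) e2 v2_12
theorem S6_18_x2 : S6 s 18 x2 = ((-73391304849408 : ℤ) : R) := S6_eq (gv_g18 (hs1 hs)) e2 v2_18
theorem S6_24_x2 : S6 s 24 x2 = ((861496842972927168 : ℤ) : R) := S6_eq (gv_g24 (hs1 hs)) e2 v2_24
theorem S6_30_x2 : S6 s 30 x2 = ((-15674291722718571720960 : ℤ) : R) := S6_eq (gv_g30 (hs1 hs)) e2 v2_30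

end six

section four

variable (hs : s ^ 2 = -1)

include hs

theorem hs0 : s ^ 2 = ((0 : ℤ) : R) * s - 1 := by rw [Int.cast_zero, zero_mul, zero_sub, hs]

theorem S4_8_x0 : S4 s 8 x0 = ((1920 : ℤ) : R) := S4_eq (gv_g8 (hs0 hs)) f0 u0_8
theorem S4_12_x0 : S4 s 12 x0 = ((13440 : ℤ) : R) := S4_eq (gv_g12 (hs0 hs)) f0 u0_12
theorem S4_8_y1 : S4 s 8 y1 = ((-9600 : ℤ) : R) := S4_eq (gv_g8 (hs0 hs)) f1 u1_8
theorem S4_12_y1 : S4 s 12 y1 = ((470400 : ℤ) : R) := S4_eq (gv_g12 (hs0 hs)) f1 u1_12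

end four

end

end Cfsg.Agent.H931.NE
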