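import Cfsg.Agent.H931.NE.E8Val
import Cfsg.Agent.H931.XZ.FourA
import Cfsg.Agent.H994.KE.EMain
import Cfsg.Agent.S1093

/-!
# `E₈(q)`, `q` of order 4 modulo `p` (S4791, S4927; helper931): the members of `X₀` which are not rational on `P`

* `exists_data` : the forms `f₈`, `f₁₂` on an abelian Sylow subgroup with their values at two points;
* `nr4` : `(p - 1) / 4 ≤ nr` for `p ≥ 13`; `nr4_two` : `(p - 1) / 2 ≤ nr` for `p ≥ 29`.
-/

set_option autoImplicit false
set_option linter.unusedSectionVars false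
set_option maxRecDepth 10000

namespace Cfsg.Agent.H931.NE

open CoxeterSystem Cfsg Cfsg.Lie Cfsg.Lie.ChevalleyDatum
open Cfsg.Agent.ChevalleyStructure Cfsg.Agent.ChevalleyStructure.Elts Cfsg.Agent.ChevalleyStructure.CoxeterGeom
  Cfsg.Agent.ChevalleyStructure.CoxeterGeomTypes Cfsg.Agent.ChevalleyStructure.NPerm
open Cfsg.Agent.Tits.Roots Cfsg.Agent.Tits.Core Cfsg.Agent.Nodes Cfsg.Agent.Nodes.Reps Cfsg.Agent.Nodes.BNOf
  Cfsg.Agent.Nodes.RGDChev Cfsg.Agent.Nodes.Bruhat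
open Cfsg.Agent.H129.TorusChar Cfsg.Agent.H129.WData Cfsg.Agent.H210.EL
open Cfsg.Agent.H994.KE.E8 (Am W6 W4 hA cw4 cw4_ok)
open Cfsg.Agent.H92.NE
open Cfsg.Agent.H603.AP

universe u v

theorem type_E8 : IsType chevE8 8 CoxeterMatrix.E₈ := by simp [IsType, typeList]

theorem formOK : FormOK chevE8 8 Am := by decide +kernel

theorem Am_diag : ∀ i, Am i i = 2 := by decide +kernel

theorem not_dvd_W {p : ℕ} (hp : p.Prime) (h11 : 11 ≤ p) : ¬ p ∣ Nat.card CoxeterMatrix.E₈.Group := by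
  have h1 : Nat.card CoxeterMatrix.E₈.Group = 696729600 := S1093.result (⟨8, CoxeterMatrix.E₈⟩, 696729600) (by simp)
  rw [h1, show 696729600 = 2 ^ 14 * 3 ^ 5 * 5 ^ 2 * 7 by norm_num, hp.dvd_mul, hp.dvd_mul, hp.dvd_mul]
  rintro (((h | h) | h) | h)
  · have := Nat.le_of_dvd (by norm_num) (hp.dvd_of_dvd_pow h); omega
  · have := Nat.le_of_dvd (by norm_num) (hp.dvd_of_dvd_pow h); omega
  · have := Nat.le_of_dvd (by norm_num) (hp.dvd_of_dvd_pow h); omega
  · have := Nat.le_of_dvd (by norm_num) h; omega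

/-- the element of the Weyl group of a chain -/
noncomputable def wE (L : List (Fin 8 × Mat 8)) : CoxeterMatrix.E₈.Group :=
  CoxeterMatrix.E₈.toCoxeterSystem.wordProd (L.map Prod.fst)

/-- its action -/
theorem rep_ap {L : List (Fin 8 × Mat 8)} (hL : ChainOK Am L) (x : Fin 8 → ℤ) :
    rep CoxeterMatrix.E₈.toCoxeterSystem type_E8.isCartan (wE L) x = ap (hd L) x := by
  funext m
  exact H795.TorsData.rep_of_sr type_E8 CoxeterMatrix.E₈.toCoxeterSystem
    (chain_rep type_E8 CoxeterMatrix.E₈.toCoxeterSystem hA hL) x m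

/-- the action of `w₄` -/
noncomputable def th4 (x : Fin 8 → ℤ) : Fin 8 → ℤ := rep CoxeterMatrix.E₈.toCoxeterSystem type_E8.isCartan (wE cw4) x

theorem th4_eq (x : Fin 8 → ℤ) : th4 x = ap W4 x := rep_ap cw4_ok x

theorem W4_sq : ∀ i j, (∑ n, W4 i n * W4 n j) = if i = j then -1 else 0 := by decide +kernel

theorem th4_sq (x : Fin 8 → ℤ) : th4 (th4 x) = -x := by
  rw [th4_eq, th4_eq]
  funext m
  unfold ap
  have h1 : ∀ j, (∑ j', x j' * W4 j' j) * W4 j m = ∑ j', x j' * (W4 j' j * W4 j m) := fun j => by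
    rw [Finset.sum_mul]
    exact Finset.sum_congr rfl fun j' _ => by ring
  rw [Finset.sum_congr rfl fun j _ => h1 j, Finset.sum_comm]
  have h2 : ∀ j', (∑ j, x j' * (W4 j' j * W4 j m)) = x j' * if j' = m then -1 else 0 := fun j' => by
    rw [← Finset.mul_sum, W4_sq]
  rw [Finset.sum_congr rfl fun j' _ => h2 j']
  simp

theorem th4_four (x : Fin 8 → ℤ) : th4^[4] x = x := by
  show th4 (th4 (th4 (th4 x))) = x
  rw [th4_sq, th4_sq, neg_neg]

/-- the projection -/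
theorem pj4 {p : ℕ} {s : ZMod p} (hs : s ^ 2 = -1) (ψ : (Fin 8 → ℤ) →+ ℤ) (x : Fin 8 → ℤ) :
    pj p 4 s th4 ψ x = 2 * ((ψ x : ZMod p) + s * (ψ (ap W4 x) : ZMod p)) := by
  unfold pj
  rw [Finset.sum_range_succ, Finset.sum_range_succ, Finset.sum_range_succ, Finset.sum_range_succ, Finset.sum_range_zero]
  have h1 : th4^[1] x = ap W4 x := th4_eq x
  have h2 : th4^[2] x = -x := th4_sq x
  have h3 : th4^[3] x = -ap W4 x := by
    show th4 (th4 (th4 x)) = _
    rw [th4_sq, th4_eq]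
  rw [h1, h2, h3, Function.iterate_zero, id, map_neg, map_neg]
  push_cast
  linear_combination (-(ψ x : ZMod p) - s * (ψ (ap W4 x) : ZMod p)) * hs

/-- `θ` as an automorphism of the lattice -/
noncomputable def th4e : (Fin 8 → ℤ) ≃+ (Fin 8 → ℤ) :=
  BpExc.Fr.repAut CoxeterMatrix.E₈.toCoxeterSystem type_E8.isCartan (wE cw4)

theorem th4e_apply (x : Fin 8 → ℤ) : th4e x = th4 x := rfl

/-- a root and its image are orthogonal -/
theorem bl_th4 (x : Fin 8 → ℤ) : bl Am x (ap W4 x) = 0 := by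
  have h1 : bl Am (th4 x) (th4 (th4 x)) = bl Am x (th4 x) := bl_rep type_E8 formOK (wE cw4) (th4 x) x
  rw [th4_sq, map_neg, bl_comm formOK.1] at h1
  rw [← th4_eq]
  omega

section

variable {p : ℕ} [hpp : Fact p.Prime] {F : Type u} [Field F] [Fintype F] {S : Type v} [Group S] [Finite S]

/-- regularity -/
theorem reg4 (h3 : 2 < p) {q s : ZMod p} (hqs : q * s = 1) (hs : s ^ 2 = -1) (a : Fin 8 → ℤ)
    (ha : IsRoot CoxeterMatrix.E₈.toCoxeterSystem type_E8.isCartan a) :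
    ∃ c : Fin 8 → ZMod p,
      (∀ x, lam c (rep CoxeterMatrix.E₈.toCoxeterSystem type_E8.isCartan (wE cw4) x) = q * lam c x) ∧ lam c a ≠ 0 := by
  have hs4 : s ^ 4 = 1 := by linear_combination (s ^ 2 - 1) * hs
  obtain ⟨c, hc1, hc2⟩ := exists_eig (θ := th4e) hqs hs4 th4_four (bl Am a)
  refine ⟨c, hc1, ?_⟩
  rw [hc2]
  have h1 : pj p 4 s th4e (bl Am a) a = 2 * (((bl Am a a : ℤ) : ZMod p) + s * ((bl Am a (ap W4 a) : ℤ) : ZMod p)) :=
    pj4 hs (bl Am a) a
  rw [h1, bl_root type_E8 formOK Am_diag ha, bl_th4, Int.cast_zero, mul_zero, add_zero]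
  have h2 : (2 : ZMod p) ≠ 0 := by
    have := (ZMod.natCast_eq_zero_iff 2 p).not.2 (fun h => by have := Nat.le_of_dvd (by norm_num) h; omega)
    simpa using this
  exact mul_ne_zero h2 (by simpa using h2)

/-- **The forms `f₈`, `f₁₂`.** -/
theorem exists_data (h11 : 11 ≤ p) (hpF : (p : F) ≠ 0) (i : S ≃* ↥(chevE8.group F))
    (hord : orderOf (Fintype.card F : ZMod p) = 4) :
    ∃ P : Sylow p S, (∀ x ∈ P, ∀ y ∈ P, x * y = y * x) ∧ p ∣ Nat.card S ∧ ∃ (f8 f12 : LL p P → ZMod p) (y₁ y₂ : LL p P)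
      (c8 c12 : ZMod p), XZ.Data P f8 f12 y₁ y₂ c8 c12 := by
  have hq2 := H994.KE.E8.sq_of_order4 hord
  set q : ZMod p := (Fintype.card F : ZMod p) with hqdef
  obtain ⟨s, hsdef⟩ : ∃ s, s = -q := ⟨_, rfl⟩
  have hqs : q * s = 1 := by rw [hsdef]; linear_combination -hq2
  have hs : s ^ 2 = -1 := by rw [hsdef]; linear_combination hq2
  have hq4 : q ^ 4 = 1 := by linear_combination (q ^ 2 - 1) * hq2
  obtain ⟨P, L, H⟩ := forms_untw type_E8 (by norm_num) i hpF (not_dvd_W hpp.out h11) invC_E8 one_ne_zero (Or.inl rfl)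
    (fun h => by have := Nat.le_of_dvd (by norm_num) h; omega) (wE cw4) (d := 4) (by norm_num) th4_four hq4 hqs
    (reg4 (by omega) hqs hs)
  have hval : ∀ m : ℕ, ∃ f ∈ Pol p P m, WInv P f ∧ ∀ x, f (L x) = 2 ^ m * S4 s m x := by
    intro m
    obtain ⟨f, hf1, hf2, hf3⟩ := H.form (fun r : Fin chevE8.nroots => bl Am (vec chevE8 8 r))
      (fun v _ => root_fam type_E8 formOK v) m
    refine ⟨f, hf1, hf2, fun x => ?_⟩
    rw [hf3]
    unfold S4
    rw [Finset.mul_sum]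
    refine Finset.sum_congr rfl fun r _ => ?_
    have h1 := pj4 hs (bl Am (vec chevE8 8 r)) x
    rw [← mul_pow, ← h1]
    rfl
  obtain ⟨f8, h8P, h8W, h8⟩ := hval 8
  obtain ⟨f12, h12P, h12W, h12⟩ := hval 12
  have hnat : ∀ n : ℕ, (∀ r : ℕ, r.Prime → r ∣ n → r < p) → (n : ZMod p) ≠ 0 := fun n h => XZ.cast_ne_zero' h
  have h2 : (2 : ZMod p) ≠ 0 := by
    have := hnat 2 fun r _ hd => by have := Nat.le_of_dvd (by norm_num) hd; omega
    simpa using this
  have h1920 : (1920 : ZMod p) ≠ 0 := by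
    have := hnat 1920 fun r hr hd => by
      rw [show 1920 = 2 ^ 7 * 3 * 5 by norm_num, hr.dvd_mul, hr.dvd_mul] at hd
      rcases hd with (hd | hd) | hd
      · have := Nat.le_of_dvd (by norm_num) (hr.dvd_of_dvd_pow hd); omega
      · have := Nat.le_of_dvd (by norm_num) hd; omega
      · have := Nat.le_of_dvd (by norm_num) hd; omega
    simpa using this
  have h13440 : (13440 : ZMod p) ≠ 0 := by
    have := hnat 13440 fun r hr hd => by
      rw [show 13440 = 2 ^ 7 * 3 * 5 * 7 by norm_num, hr.dvd_mul, hr.dvd_mul, hr.dvd_mul] at hd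
      rcases hd with ((hd | hd) | hd) | hd
      · have := Nat.le_of_dvd (by norm_num) (hr.dvd_of_dvd_pow hd); omega
      · have := Nat.le_of_dvd (by norm_num) hd; omega
      · have := Nat.le_of_dvd (by norm_num) hd; omega
      · have := Nat.le_of_dvd (by norm_num) hd; omega
    simpa using this
  refine ⟨P, H.ab, H.dvd, f8, f12, L x0, L y1, 2 ^ 8 * 1920, 2 ^ 12 * 13440, ?_⟩
  refine ⟨h8P, h12P, h8W, h12W, mul_ne_zero (pow_ne_zero _ h2) h1920, mul_ne_zero (pow_ne_zero _ h2) h13440, ?_, ?_, ?_, ?_⟩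
  · rw [h8, S4_8_x0 hs]; norm_num
  · rw [h12, S4_12_x0 hs]; norm_num
  · rw [h8, S4_8_y1 hs]; push_cast; ring
  · rw [h12, S4_12_y1 hs]; push_cast; ring

variable {I : Ideal AlgInt}

theorem mod4 (hp : 3 < p) (hord : orderOf (Fintype.card F : ZMod p) = 4) : p % 4 = 1 := by
  have hq2 := H994.KE.E8.sq_of_order4 hord
  have h0 : (Fintype.card F : ZMod p) ≠ 0 := by
    intro h
    rw [h] at hq2
    have : (1 : ZMod p) = 0 := by linear_combination hq2
    exact one_ne_zero this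
  have h1 : 4 ∣ p - 1 := by
    rw [← hord]
    exact ZMod.orderOf_dvd_card_sub_one h0
  omega

/-- **One orbit.** -/
theorem nr4' (hM : IsPModular p I) (h13 : 13 ≤ p) (hpF : (p : F) ≠ 0) (i : S ≃* ↥(chevE8.group F))
    (hord : orderOf (Fintype.card F : ZMod p) = 4) : (p - 1) / 4 ≤ H508.XR.nr p I S := by
  obtain ⟨P, hab, hdvd, f8, f12, y₁, y₂, c8, c12, H⟩ := exists_data (by omega) hpF i hord
  have h4 := mod4 (F := F) (by omega) hord
  by_cases e1 : p = 13
  · have := XZ.nr_13 hM hdvd hab H e1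
    omega
  by_cases e2 : p = 17
  · have := XZ.nr_17 hM hdvd hab H e2
    omega
  by_cases e3 : p = 21
  · have := hpp.out
    rw [e3] at this
    norm_num at this
  by_cases e4 : p = 25
  · have := hpp.out
    rw [e4] at this
    norm_num at this
  have := XZ.nr_29 hM hdvd hab H h4 (by omega)
  omega

/-- **Two orbits.** -/
theorem nr4_two (hM : IsPModular p I) (h29 : 29 ≤ p) (hpF : (p : F) ≠ 0) (i : S ≃* ↥(chevE8.group F))
    (hord : orderOf (Fintype.card F : ZMod p) = 4) : (p - 1) / 2 ≤ H508.XR.nr p I S := by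
  obtain ⟨P, hab, hdvd, f8, f12, y₁, y₂, c8, c12, H⟩ := exists_data (by omega) hpF i hord
  exact XZ.nr_29 hM hdvd hab H (mod4 (F := F) (by omega) hord) h29

/-- **`(p - 1) / 4 ≤ nr` for `E₈(q)`, `q` of order 4 modulo `p`.** -/
theorem nr4 {M : Ideal AlgInt} (hM : IsPModular p M) (h13 : 13 ≤ p) (hpF : (p : F) ≠ 0)
    (hord : orderOf (Fintype.card F : ZMod p) = 4) : (p - 1) / 4 ≤ H508.XR.nr p M ↥(chevE8.group F) :=
  nr4' hM h13 hpF (MulEquiv.refl _) hord

end

end Cfsg.Agent.H931.NE
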