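import Cfsg.Agent.H994.KE.EData
import Cfsg.Agent.H92.NE.Fam

/-!
# `E₈(q)`, `q` of order 3, 4, 6 modulo `p` (S4791, S4927; helper931): the kernel evaluations
-/

set_option autoImplicit false
set_option maxRecDepth 100000
set_option maxHeartbeats 8000000

namespace Cfsg.Agent.H931.NE

open Cfsg Cfsg.Lie Cfsg.Lie.ChevalleyDatum
open Cfsg.Agent.ChevalleyStructure.CoxeterGeomTypes Cfsg.Agent.Nodes.RGDChev Cfsg.Agent.H129.WData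
  Cfsg.Agent.H129.TorusChar Cfsg.Agent.Tits.Roots Cfsg.Agent.Nodes.Reps Cfsg.Agent.Nodes Cfsg.Agent.H210.EL
open Cfsg.Agent.H994.KE.E8 (Am W6 W4)
open Cfsg.Agent.H92.NE (bl)

/-- the action of a matrix -/
def ap (W : Mat 8) (x : Fin 8 → ℤ) : Fin 8 → ℤ := fun m => ∑ j, x j * W j m

/-! ### the ring `ℤ[s]`, `s² = t s - 1` -/

/-- the product -/
def gm (t : ℤ) (z w : ℤ × ℤ) : ℤ × ℤ := (z.1 * w.1 - z.2 * w.2, z.1 * w.2 + z.2 * w.1 + t * (z.2 * w.2))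
def g2 (t : ℤ) (z : ℤ × ℤ) : ℤ × ℤ := gm t z z
def g3 (t : ℤ) (z : ℤ × ℤ) : ℤ × ℤ := gm t (g2 t z) z
def g4 (t : ℤ) (z : ℤ × ℤ) : ℤ × ℤ := g2 t (g2 t z)
def g6 (t : ℤ) (z : ℤ × ℤ) : ℤ × ℤ := g2 t (g3 t z)
def g8 (t : ℤ) (z : ℤ × ℤ) : ℤ × ℤ := g2 t (g4 t z)
def g12 (t : ℤ) (z : ℤ × ℤ) : ℤ × ℤ := g2 t (g6 t z)
def g18 (t : ℤ) (z : ℤ × ℤ) : ℤ × ℤ := gm t (g12 t z) (g6 t z)
def g24 (t : ℤ) (z : ℤ × ℤ) : ℤ × ℤ := g2 t (g12 t z)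
def g30 (t : ℤ) (z : ℤ × ℤ) : ℤ × ℤ := gm t (g24 t z) (g6 t z)

/-- the value -/
def gv {R : Type*} [CommRing R] (s : R) (z : ℤ × ℤ) : R := (z.1 : R) + s * (z.2 : R)

section

variable {R : Type*} [CommRing R] {s : R} {t : ℤ}

theorem gv_gm (hs : s ^ 2 = t * s - 1) (z w : ℤ × ℤ) : gv s (gm t z w) = gv s z * gv s w := by
  unfold gv gm
  push_cast
  linear_combination (-(z.2 : R) * w.2) * hs

theorem gv_g2 (hs : s ^ 2 = t * s - 1) (z : ℤ × ℤ) : gv s (g2 t z) = gv s z ^ 2 := by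
  unfold g2
  rw [gv_gm hs, ← pow_two]

theorem gv_g4 (hs : s ^ 2 = t * s - 1) (z : ℤ × ℤ) : gv s (g4 t z) = gv s z ^ 4 := by
  unfold g4
  rw [gv_g2 hs, gv_g2 hs, ← pow_mul]

theorem gv_g8 (hs : s ^ 2 = t * s - 1) (z : ℤ × ℤ) : gv s (g8 t z) = gv s z ^ 8 := by
  unfold g8
  rw [gv_g2 hs, gv_g4 hs, ← pow_mul]

theorem gv_g6 (hs : s ^ 2 = t * s - 1) (z : ℤ × ℤ) : gv s (g6 t z) = gv s z ^ 6 := by
  unfold g6 g3
  rw [gv_g2 hs, gv_gm hs, gv_g2 hs]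
  ring

theorem gv_g12 (hs : s ^ 2 = t * s - 1) (z : ℤ × ℤ) : gv s (g12 t z) = gv s z ^ 12 := by
  unfold g12
  rw [gv_g2 hs, gv_g6 hs, ← pow_mul]

theorem gv_g18 (hs : s ^ 2 = t * s - 1) (z : ℤ × ℤ) : gv s (g18 t z) = gv s z ^ 18 := by
  unfold g18
  rw [gv_gm hs, gv_g12 hs, gv_g6 hs, ← pow_add]

theorem gv_g24 (hs : s ^ 2 = t * s - 1) (z : ℤ × ℤ) : gv s (g24 t z) = gv s z ^ 24 := by
  unfold g24
  rw [gv_g2 hs, gv_g12 hs, ← pow_mul]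

theorem gv_g30 (hs : s ^ 2 = t * s - 1) (z : ℤ × ℤ) : gv s (g30 t z) = gv s z ^ 30 := by
  unfold g30
  rw [gv_gm hs, gv_g24 hs, gv_g6 hs, ← pow_add]

theorem sum_gv {J : Type*} [Fintype J] (f : J → ℤ × ℤ) : ∑ j, gv s (f j) = gv s (∑ j, f j) := by
  unfold gv
  rw [Prod.fst_sum, Prod.snd_sum, Int.cast_sum, Int.cast_sum, Finset.mul_sum, ← Finset.sum_add_distrib]

end

/-- the pair of the values of two vectors at a root -/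
def prr (x y : Fin 8 → ℤ) (r : Fin chevE8.nroots) : ℤ × ℤ := (bl Am (vec chevE8 8 r) x, bl Am (vec chevE8 8 r) y)

def x0 : Fin 8 → ℤ := ![1, 0, 0, 0, 0, 0, 0, 0]
def x1 : Fin 8 → ℤ := ![-1, -1, -1, -1, -1, 0, 1, 0]
def x2 : Fin 8 → ℤ := ![-1, -1, -1, -1, -1, 0, -1, 1]
def y1 : Fin 8 → ℤ := ![0, 0, 0, 0, 1, 0, 0, 1]

def a0 : Fin 8 → ℤ := ![0, -2, -3, -4, -3, -2, -2, -1]
def b0 : Fin 8 → ℤ := ![3, 4, 6, 8, 6, 4, 4, 2]
def a1 : Fin 8 → ℤ := ![1, 1, 3, 4, 3, 4, 4, 1]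
def b1 : Fin 8 → ℤ := ![-5, -5, -9, -11, -9, -8, -5, -2]
def a2 : Fin 8 → ℤ := ![-1, 2, 1, 3, 2, 3, 1, 3]
def b2 : Fin 8 → ℤ := ![-1, -7, -5, -9, -7, -6, -5, -3]
def w0 : Fin 8 → ℤ := ![0, 1, 0, 1, 1, 1, 0, 0]
def w1 : Fin 8 → ℤ := ![-1, -2, -2, -2, -2, -1, -1, 0]

theorem e0 : (2 : ℤ) • x0 - ap W6 x0 = a0 ∧ (2 : ℤ) • ap W6 x0 - x0 = b0 := by decide +kernel
theorem e1 : (2 : ℤ) • x1 - ap W6 x1 = a1 ∧ (2 : ℤ) • ap W6 x1 - x1 = b1 := by decide +kernel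
theorem e2 : (2 : ℤ) • x2 - ap W6 x2 = a2 ∧ (2 : ℤ) • ap W6 x2 - x2 = b2 := by decide +kernel
theorem f0 : ap W4 x0 = w0 := by decide +kernel
theorem f1 : ap W4 y1 = w1 := by decide +kernel

theorem v0_12 : (∑ r, g12 1 (prr a0 b0 r)) = (3306744, 0) := by decide +kernel
theorem v0_18 : (∑ r, g18 1 (prr a0 b0 r)) = (2321334288, 0) := by decide +kernel
theorem v0_24 : (∑ r, g24 1 (prr a0 b0 r)) = (1694663312328, 0) := by decide +kernel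
theorem v0_30 : (∑ r, g30 1 (prr a0 b0 r)) = (1235344468044960, 0) := by decide +kernel
theorem v1_12 : (∑ r, g12 1 (prr a1 b1 r)) = (79361856, 0) := by decide +kernel
theorem v1_18 : (∑ r, g18 1 (prr a1 b1 r)) = (-74282697216, 0) := by decide +kernel
theorem v1_24 : (∑ r, g24 1 (prr a1 b1 r)) = (174046502347200, 0) := by decide +kernel
theorem v1_30 : (∑ r, g30 1 (prr a1 b1 r)) = (-267443616068254080, 0) := by decide +kernel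
theorem v2_12 : (∑ r, g12 1 (prr a2 b2 r)) = (449717184, 0) := by decide +kernel
theorem v2_18 : (∑ r, g18 1 (prr a2 b2 r)) = (-73391304849408, 0) := by decide +kernel
theorem v2_24 : (∑ r, g24 1 (prr a2 b2 r)) = (861496842972927168, 0) := by decide +kernel
theorem v2_30 : (∑ r, g30 1 (prr a2 b2 r)) = (-15674291722718571720960, 0) := by decide +kernel

theorem u0_8 : (∑ r, g8 0 (prr x0 w0 r)) = (1920, 0) := by decide +kernel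
theorem u0_12 : (∑ r, g12 0 (prr x0 w0 r)) = (13440, 0) := by decide +kernel
theorem u1_8 : (∑ r, g8 0 (prr y1 w1 r)) = (-9600, 0) := by decide +kernel
theorem u1_12 : (∑ r, g12 0 (prr y1 w1 r)) = (470400, 0) := by decide +kernel

end Cfsg.Agent.H931.NE
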